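import Mathlib

/-!
# The Sylow arithmetic for the primes 23, 29, 31, 37, 43
-/

set_option autoImplicit false

namespace Cfsg.Agent.Lib.J4BigPrimes.Arith

/-- The order of the group. -/
def order : ℕ := 86775571046077562880

/-- The divisors of a product of prime powers. -/
def divList : List (ℕ × ℕ) → List ℕ
  | [] => [1]
  | (q, k) :: ls => (List.range (k + 1)).flatMap fun i => (divList ls).map (q ^ i * ·)

theorem mem_divList : ∀ (ls : List (ℕ × ℕ)), (∀ qk ∈ ls, qk.1.Prime) → ∀ c : ℕ,
    c ∣ (ls.map fun qk => qk.1 ^ qk.2).prod → c ∈ divList ls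
  | [], _, c, h => by simpa [divList] using h
  | (q, k) :: ls, hp, c, h => by
    rw [List.map_cons, List.prod_cons, Nat.dvd_mul] at h
    obtain ⟨c1, c2, h1, h2, rfl⟩ := h
    obtain ⟨i, hi, rfl⟩ := (Nat.dvd_prime_pow (hp _ List.mem_cons_self)).mp h1
    simp only [divList, List.mem_flatMap, List.mem_range, List.mem_map]
    exact ⟨i, by omega, c2, mem_divList ls (fun x hx => hp x (List.mem_cons_of_mem _ hx)) c2 h2, rfl⟩

/-- The possible orders of centralisers. -/
def cands : List ℕ := divList [(11, 3), (23, 1), (29, 1), (31, 1), (37, 1), (43, 1)]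

theorem mem_cands {c : ℕ} (h : c ∣ 11 ^ 3 * 23 * 29 * 31 * 37 * 43) : c ∈ cands := by
  refine mem_divList _ (fun qk hqk => ?_) c (by simpa [mul_assoc] using h)
  simp only [List.mem_cons, List.not_mem_nil, or_false] at hqk
  rcases hqk with rfl | rfl | rfl | rfl | rfl | rfl <;> norm_num

/-- The condition on the centralizer order `c` and the index `d` in the normalizer. -/
def okOne (p c d : ℕ) : Bool :=
  Nat.beq (c % p) 0 && Nat.beq (order % (c * d)) 0 && Nat.beq (order / (c * d) % p) 1 &&
    Nat.beq ((p - 1) % d) 0 && (!Nat.beq p 23 || Nat.beq (d % 11) 0) &&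
    (!Nat.beq p 31 || Nat.beq (d % 5) 0)

/-- The five primes. -/
def primes : List ℕ := [29, 37, 43, 31, 23]

/-- The solutions of the conditions on one prime. -/
def opts (p : ℕ) : List (ℕ × ℕ) :=
  if p = 29 then [(29, 28), (1247, 2), (899, 14), (38657, 1), (11803, 28), (507529, 2), (365893, 14), (15733399, 1), (315491, 7), (80707, 1), (128404837, 7), (107582431, 28), (32847749, 1), (27521087, 4), (43786049417, 28)] else
  if p = 37 then [(37, 12), (1591, 2), (49321, 12), (46139, 9), (24679, 12), (1061197, 2), (32897107, 12), (402523, 12), (5582819, 12), (3192101, 9), (1526657, 2), (44273053, 9), (1018280219, 2)] else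
  if p = 43 then [(43, 14), (1333, 6), (49321, 42), (1247, 42), (119669, 6), (4427753, 42), (3709739, 21), (43786049417, 1)] else
  if p = 31 then [(31, 10), (1430309, 15), (341, 15), (227447, 30), (8415539, 5), (5967841, 10), (65646251, 15), (43786049417, 30)] else
  if p = 23 then [(23, 22), (1061197, 22), (20677, 11), (4427753, 22), (86273, 11), (3980549947, 11)] else []

theorem opts_complete : (primes.all fun p => cands.all fun c => (List.range p).all fun d =>
    Nat.beq d 0 || !okOne p c d || (opts p).contains (c, d)) = true := by decide +kernel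

theorem mem_opts {p c d : ℕ} (hp : p ∈ primes) (hc : c ∈ cands) (hd : d < p) (hd0 : d ≠ 0)
    (h : okOne p c d = true) : (c, d) ∈ opts p := by
  have h' := opts_complete
  simp only [List.all_eq_true, List.mem_range] at h'
  have h'' := h' p hp c hc d hd
  simpa [h, hd0] using h''

/-- The condition on two primes. -/
def pairOk (P R : ℕ × ℕ × ℕ) : Bool :=
  let a := Nat.beq (P.2.1 % R.1) 0
  let b := Nat.beq (R.2.1 % P.1) 0
  (a == b) && (!a || [1, 11].any fun i => [1, 11].any fun j => Nat.beq (P.2.2 * i) (R.2.2 * j))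

/-- The expected value. -/
def target : ℕ → ℕ × ℕ
  | 23 => (23, 22)
  | 29 => (29, 28)
  | 31 => (31, 10)
  | 37 => (37, 12)
  | _ => (43, 14)

/-- The condition on a full assignment. -/
def leafOk (acc : List (ℕ × ℕ × ℕ)) : Bool :=
  acc.all fun P => decide (P.2 = target P.1) || decide (P = (31, 341, 15))

/-- The search over the assignments. -/
def search : List ℕ → List (ℕ × ℕ × ℕ) → Bool
  | [], acc => leafOk acc
  | p :: ps, acc => (opts p).all fun o =>
      !(acc.all fun R => pairOk (p, o) R) || search ps ((p, o) :: acc)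

theorem search_ok : search primes [] = true := by decide +kernel

theorem search_sound (f : ℕ → ℕ × ℕ) : ∀ (ps : List ℕ) (acc : List (ℕ × ℕ × ℕ)),
    search ps acc = true → ps.Nodup → (∀ p ∈ ps, f p ∈ opts p) →
    (∀ R ∈ acc, R.2 = f R.1 ∧ R.1 ∉ ps ∧ R.1 ∈ primes) → (∀ p ∈ ps, p ∈ primes) →
    (∀ p ∈ primes, ∀ q ∈ primes, p ≠ q → pairOk (p, f p) (q, f q) = true) →
    ∀ p, (p ∈ ps ∨ ∃ R ∈ acc, R.1 = p) → f p = target p ∨ (p = 31 ∧ f p = (341, 15)) := by
  intro ps
  induction ps with
  | nil =>
    intro acc h _ _ hacc _ _ p hp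
    rcases hp with hp | ⟨R, hR, rfl⟩
    · exact absurd hp List.not_mem_nil
    · simp only [search, leafOk, List.all_eq_true, Bool.or_eq_true, decide_eq_true_eq] at h
      rcases h R hR with h' | h'
      · exact Or.inl ((hacc R hR).1.symm.trans h')
      · refine Or.inr ⟨by rw [h'], ?_⟩
        rw [← (hacc R hR).1, h']
  | cons a ps ih =>
    intro acc h hnd hf hacc hps hpair p hp
    simp only [search, List.all_eq_true, Bool.or_eq_true, Bool.not_eq_true'] at h
    rw [List.nodup_cons] at hnd
    have h' := (h (f a) (hf a List.mem_cons_self)).resolve_left fun hbad => by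
      rw [List.all_eq_false] at hbad
      obtain ⟨⟨q, o⟩, hR, hno⟩ := hbad
      obtain ⟨e1, e2, e3⟩ := hacc _ hR
      obtain rfl : o = f q := e1
      exact hno (hpair a (hps a List.mem_cons_self) q e3
        fun hc => e2 (hc ▸ List.mem_cons_self))
    refine ih ((a, f a) :: acc) h' hnd.2 (fun q hq => hf q (List.mem_cons_of_mem _ hq)) ?_
      (fun q hq => hps q (List.mem_cons_of_mem _ hq)) hpair p ?_
    · intro R hR
      rcases List.mem_cons.mp hR with rfl | hR
      · exact ⟨rfl, hnd.1, hps a List.mem_cons_self⟩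
      · obtain ⟨e1, e2, e3⟩ := hacc R hR
        exact ⟨e1, fun hc => e2 (List.mem_cons_of_mem _ hc), e3⟩
    · rcases hp with hp | ⟨R, hR, hRp⟩
      · rcases List.mem_cons.mp hp with rfl | hp
        · exact Or.inr ⟨_, List.mem_cons_self, rfl⟩
        · exact Or.inl hp
      · exact Or.inr ⟨R, List.mem_cons_of_mem _ hR, hRp⟩

/-- The values are determined, up to one case at 31. -/
theorem determined (f : ℕ → ℕ × ℕ) (hf : ∀ p ∈ primes, f p ∈ opts p)
    (hpair : ∀ p ∈ primes, ∀ q ∈ primes, p ≠ q → pairOk (p, f p) (q, f q) = true) {p : ℕ}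
    (hp : p ∈ primes) : f p = target p ∨ (p = 31 ∧ f p = (341, 15)) :=
  search_sound f primes [] search_ok (by decide) hf (fun R hR => absurd hR List.not_mem_nil)
    (fun _ h => h) hpair p (Or.inl hp)

/-- No number of Sylow 31-subgroups is available in the centralizer of an element of order 11. -/
def noCount : Bool :=
  (List.range 4).all fun i => (List.range 2).all fun j => (List.range 3).all fun k =>
    !(Nat.beq ((2 ^ i * 3 ^ j * 11 ^ k) % 31) 1) || Nat.beq (2 ^ i * 3 ^ j * 11 ^ k) 1

theorem noCount_eq : noCount = true := by decide +kernel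

theorem count_eq_one {n : ℕ} (h : n ∣ 2 ^ 3 * 3 * 11 ^ 2) (h1 : n % 31 = 1) : n = 1 := by
  have hm := mem_divList [(2, 3), (3, 1), (11, 2)] (fun qk hqk => by
    simp only [List.mem_cons, List.not_mem_nil, or_false] at hqk
    rcases hqk with rfl | rfl | rfl <;> norm_num) n (by simpa [mul_assoc] using h)
  simp only [divList, List.mem_flatMap, List.mem_range, List.mem_map, List.mem_singleton] at hm
  obtain ⟨i, hi, _, ⟨j, hj, _, ⟨k, hk, _, rfl, rfl⟩, rfl⟩, rfl⟩ := hm
  have h2 := noCount_eq
  simp only [noCount, List.all_eq_true, List.mem_range, Bool.or_eq_true, Bool.not_eq_true'] at h2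
  rcases h2 i hi j hj k hk with h3 | h3
  · rw [← Bool.not_eq_true, Nat.beq_eq] at h3
    exact absurd (by simpa [mul_assoc] using h1) h3
  · rw [Nat.beq_eq] at h3
    simpa [mul_assoc] using h3

end Cfsg.Agent.Lib.J4BigPrimes.Arith
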