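import Cfsg.Agent.Lib.J4Five.Fix
import Cfsg.Agent.Lib.J4Local.AutFacts

/-!
# Finite facts for the large primes of J4

An element of order eleven of `Aut M22` is self-centralizing; `M24` has a Frobenius group `23:11`
and `SL(5,2)` a Frobenius group `31:5`.
-/

set_option autoImplicit false
set_option linter.style.haveILetI false

namespace Cfsg.Agent.Lib.J4BigPrimes

open Cfsg Cfsg.Agent.Lib.Golay Cfsg.Agent.Lib.Computation
open Cfsg.Agent.Lib.J4Local
open Cfsg.Agent.Lib.J4Local.AutModel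
open Cfsg.Agent.Lib.J4Local.AutLocal
open Cfsg.Agent.Lib.J4Local.AutSylow
open Cfsg.Agent.Lib.FusionAlperin.MathieuCert

namespace Data

/-- An element of order eleven. -/
def aCode : ℕ := 957312869653888842674834735303708160

/-- The search levels. -/
def levA : List OutTrivial.Level :=
  [⟨23, 1, [(23, 0)], []⟩,
   ⟨0, 1, [(0, 0)], []⟩,
   ⟨1, 11, [(1, 0), (16, 1), (5, 2), (3, 3), (14, 4), (13, 5), (10, 6), (8, 7), (2, 8), (19, 9), (22, 10)],
    [13198638]⟩,
   ⟨4, 11, [(4, 0), (12, 1), (11, 2), (17, 3), (21, 4), (15, 5), (6, 6), (7, 7), (20, 8), (18, 9), (9, 10)],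
    [5279, 10558, 18147, 36294, 69395, 133817, 262637, 525274, 1050548, 2101096, 4196943]⟩]

/-- The powers of the element. -/
def powers : List ℕ := (List.range 11).map fun i => OutTrivial.cpow aCode i

/-- The conditions cutting out the stabiliser of the duad. -/
def duadSpec : OutTrivial.Spec := ⟨[], [8388609]⟩

/-- The checks. -/
def elevenOk : Bool :=
  inBig aCode && !(Nat.beq (canon aCode) oneCode) &&
    Nat.beq (OutTrivial.cpow aCode 11) oneCode &&
    ((List.range 11).all fun i => inBig (OutTrivial.cpow aCode i)) &&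
    OutTrivial.searchOk duadSpec aCode aCode powers levA

theorem elevenOk_eq : elevenOk = true := by decide +kernel

theorem spec : inBig aCode = true ∧ canon aCode ≠ oneCode ∧
    OutTrivial.cpow aCode 11 = oneCode ∧
    (∀ i < 11, inBig (OutTrivial.cpow aCode i) = true) ∧
    OutTrivial.searchOk duadSpec aCode aCode powers levA = true := by
  have h := elevenOk_eq
  simp only [elevenOk, Bool.and_eq_true, Bool.not_eq_true', List.all_eq_true, List.mem_range,
    Nat.beq_eq, Bool.eq_false_iff, ne_eq] at h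
  obtain ⟨⟨⟨⟨h1, h2⟩, h3⟩, h4⟩, h5⟩ := h
  exact ⟨h1, h2, h3, h4, h5⟩

/-- The element of order eleven. -/
noncomputable def aA : AutM22 := aut aCode

theorem aut_cpow : ∀ i ≤ 11, inBig (OutTrivial.cpow aCode i) = true →
    aut (OutTrivial.cpow aCode i) = aA ^ i := by
  intro i
  induction i with
  | zero => exact fun _ _ => by rw [pow_zero]; exact aut_one
  | succ n ih =>
    intro hn hb
    rw [pow_succ', ← ih (by omega) (spec.2.2.2.1 n (by omega))]
    exact (aut_mul spec.1 (spec.2.2.2.1 n (by omega)) hb rfl).symm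

theorem aA_ne : aA ≠ 1 := by
  intro h
  obtain ⟨h1, h2, -⟩ := spec
  rw [aA, aut_eq h1, map_eq_one_iff toAut toAut.injective] at h
  have h' : gperm aCode = gperm oneCode := by
    rw [gperm_oneCode]; exact congrArg Subtype.val h
  have hone : inBig oneCode = true := by decide +kernel
  have hc : canon aCode = aCode ∧ canon oneCode = oneCode := by decide +kernel
  exact h2 (by rw [hc.1]; exact eq_of_gperm (inBig_spec h1).1 (inBig_spec hone).1 hc.1 hc.2 h')

theorem order_aA : orderOf aA = 11 := by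
  haveI : Fact (Nat.Prime 11) := ⟨by norm_num⟩
  refine orderOf_eq_prime ?_ aA_ne
  rw [← aut_cpow 11 le_rfl (by rw [spec.2.2.1]; decide +kernel), spec.2.2.1, aut_one]

theorem cent_a : Subgroup.centralizer ({aA} : Set AutM22) = Subgroup.zpowers aA := by
  classical
  refine le_antisymm ?_
    ((Subgroup.zpowers_le).mpr (Subgroup.mem_centralizer_singleton_iff.mpr rfl))
  intro x hxc
  have hc := Subgroup.mem_centralizer_singleton_iff.mp hxc
  obtain ⟨g, rfl⟩ := toAut.surjective x
  rw [aA, aut_eq spec.1, ← map_mul, ← map_mul] at hc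
  have hc' : (g : Equiv.Perm GolayPt) * gperm aCode = gperm aCode * g :=
    congrArg Subtype.val (toAut.injective hc)
  have hset : setOfMask 8388609 = ({none, some 0} : Finset GolayPt) := by decide +kernel
  have hholds : duadSpec.Holds (g : Equiv.Perm GolayPt) := by
    refine ⟨g.2.1, fun i hi => by simp [duadSpec] at hi, fun m hm => ?_⟩
    simp only [duadSpec, List.mem_cons, List.not_mem_nil, or_false] at hm
    subst hm
    rw [hset, Finset.smul_finset_insert, Finset.smul_finset_singleton, Equiv.Perm.smul_def,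
      Equiv.Perm.smul_def]
    rcases g.2.2 with ⟨h1, h2⟩ | ⟨h1, h2⟩
    · rw [h1, h2]
    · rw [h1, h2, Finset.pair_comm]
  obtain ⟨u, hu, hue⟩ := OutTrivial.searchOk_spec spec.2.2.2.2 hholds hc'
  simp only [powers, List.mem_map, List.mem_range] at hu
  obtain ⟨i, hi, rfl⟩ := hu
  have hu' := spec.2.2.2.1 i hi
  have : toAut g = aA ^ i := by
    rw [← aut_cpow i hi.le hu', aut_eq hu']
    exact congrArg toAut (Subtype.ext hue)
  rw [this]
  exact Subgroup.npow_mem_zpowers aA i

end Data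

open Data in
/-- Elements of order eleven of `Aut M22` are self-centralizing. -/
theorem cent_eleven {a : AutM22} (ha : orderOf a = 11) :
    Nat.card ↥(Subgroup.centralizer ({a} : Set AutM22)) = 11 := by
  haveI : Fact (Nat.Prime 11) := ⟨by norm_num⟩
  have hf : (Nat.card AutM22).factorization 11 = 1 := by
    rw [AutModel.card_autM22, show (887040 : ℕ) = 11 ^ 1 * 80640 by norm_num,
      Nat.factorization_mul (by norm_num) (by norm_num), Finsupp.add_apply,
      Nat.Prime.factorization_pow (by norm_num : Nat.Prime 11), Finsupp.single_eq_same,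
      Nat.factorization_eq_zero_of_not_dvd (by norm_num : ¬ 11 ∣ 80640)]
  let P : Sylow 11 AutM22 := Sylow.ofCard (Subgroup.zpowers a)
    (by rw [Nat.card_zpowers, ha, hf, pow_one])
  let R : Sylow 11 AutM22 := Sylow.ofCard (Subgroup.zpowers aA)
    (by rw [Nat.card_zpowers, order_aA, hf, pow_one])
  obtain ⟨g, hg⟩ := MulAction.exists_smul_eq AutM22 P R
  have h := congrArg (fun S : Sylow 11 AutM22 => (S : Subgroup AutM22)) hg
  simp only [Sylow.coe_subgroup_smul] at h
  have hb : g * a * g⁻¹ ∈ Subgroup.zpowers aA := by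
    have : g * a * g⁻¹ ∈ ((R : Sylow 11 AutM22) : Subgroup AutM22) := by
      rw [← hg, Sylow.coe_subgroup_smul]
      exact Subgroup.smul_mem_pointwise_smul a (MulAut.conj g) _ (Subgroup.mem_zpowers a)
    exact this
  have hbo : orderOf (g * a * g⁻¹) = 11 := (MulEquiv.orderOf_eq (MulAut.conj g) a).trans ha
  have hz : Subgroup.zpowers (g * a * g⁻¹) = Subgroup.zpowers aA :=
    Subgroup.eq_of_le_of_card_ge (Subgroup.zpowers_le.mpr hb)
      (by rw [Nat.card_zpowers, Nat.card_zpowers, hbo, order_aA])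
  refine le_antisymm ?_ (Nat.le_of_dvd Nat.card_pos (ha ▸ Nat.card_zpowers a ▸
    Subgroup.card_dvd_of_le (Subgroup.zpowers_le.mpr
      (Subgroup.mem_centralizer_singleton_iff.mpr rfl))))
  calc Nat.card ↥(Subgroup.centralizer ({a} : Set AutM22))
      ≤ Nat.card ↥(Subgroup.zpowers aA) := by
        refine Nat.card_le_card_of_injective (fun d => ⟨g * d.1 * g⁻¹, ?_⟩) fun d d' hd => ?_
        · rw [← cent_a]
          have hd := Subgroup.mem_centralizer_singleton_iff.mp d.2
          have h1 : Commute (g * d.1 * g⁻¹) (g * a * g⁻¹) := (Commute.map hd (MulAut.conj g) :)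
          obtain ⟨i, hi⟩ := (hz ▸ Subgroup.mem_zpowers aA : aA ∈ Subgroup.zpowers (g * a * g⁻¹))
          have hi' : (g * a * g⁻¹) ^ i = aA := hi
          exact Subgroup.mem_centralizer_singleton_iff.mpr (hi' ▸ h1.zpow_right i).eq
        · exact Subtype.ext (mul_left_cancel (mul_right_cancel (congrArg Subtype.val hd :)))
    _ = 11 := by rw [Nat.card_zpowers, order_aA]

namespace Data

/-- Translation by one on the projective line. -/
def shift23Code : ℕ := 956302485175575353788796878166559809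
/-- Multiplication by two. -/
def doubleCode : ℕ := 983435072843990828779021698901151808

theorem m24Ok : (inM24 shift23Code && inM24 doubleCode &&
    Nat.beq (OutTrivial.cpow shift23Code 23) oneCode && Nat.beq (OutTrivial.cpow doubleCode 11) oneCode &&
    Nat.beq (mulP 24 5 doubleCode shift23Code) (mulP 24 5 (OutTrivial.cpow shift23Code 2) doubleCode) &&
    !(Nat.beq (getW 5 shift23Code 0) 0)) = true := by decide +kernel

theorem key {c : ℕ} (hc : inM24 c = true) : ∀ n, okCode (OutTrivial.cpow c n) = true ∧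
    gperm (OutTrivial.cpow c n) = gperm c ^ n := by
  intro n
  induction n with
  | zero => exact ⟨okCode_oneCode, gperm_oneCode⟩
  | succ n ih =>
    refine ⟨okCode_mulP (okCode_of_inM24 hc) ih.1, ?_⟩
    rw [pow_succ', ← ih.2, ← gperm_mul (okCode_of_inM24 hc) ih.1]
    rfl

end Data

open Data in
/-- A Frobenius group `23:11` in `M24`. -/
theorem m24_frobenius : ∃ a b : Cfsg.M24, orderOf a = 23 ∧ b ^ 11 = 1 ∧
    b * a * b⁻¹ = a * a := by
  have h := m24Ok
  simp only [Bool.and_eq_true, Nat.beq_eq, Bool.not_eq_true', Bool.eq_false_iff, ne_eq] at h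
  obtain ⟨⟨⟨⟨⟨hA, hB⟩, hA23⟩, hB11⟩, hc⟩, hne⟩ := h
  haveI : Fact (Nat.Prime 23) := ⟨by norm_num⟩
  refine ⟨⟨gperm shift23Code, gperm_mem_M24 hA⟩, ⟨gperm doubleCode, gperm_mem_M24 hB⟩, ?_,
    Subtype.ext ?_, ?_⟩
  · refine orderOf_eq_prime (Subtype.ext ?_) fun he => ?_
    · show gperm shift23Code ^ 23 = 1
      rw [← (key hA 23).2, hA23, gperm_oneCode]
    · have he' : gperm shift23Code = 1 := congrArg Subtype.val he
      have := idx_gperm (okCode_of_inM24 hA) (pt 0)
      rw [he', Equiv.Perm.one_apply, idx_pt (by norm_num)] at this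
      exact hne this.symm
  · show gperm doubleCode ^ 11 = 1
    rw [← (key hB 11).2, hB11, gperm_oneCode]
  · rw [mul_inv_eq_iff_eq_mul]
    refine Subtype.ext ?_
    show gperm doubleCode * gperm shift23Code = gperm shift23Code * gperm shift23Code * gperm doubleCode
    rw [← gperm_mul (okCode_of_inM24 hB) (okCode_of_inM24 hA), hc,
      gperm_mul (key hA 2).1 (okCode_of_inM24 hB), (key hA 2).2, sq]

namespace Data

abbrev M5 : Type := Matrix (Fin 5) (Fin 5) (ZMod 2)

/-- Multiplication by a root of `x⁵ + x² + 1` on the field of 32 elements. -/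
def rootM : M5 :=
  !![0, 0, 0, 0, 1; 1, 0, 0, 0, 0; 0, 1, 0, 0, 1; 0, 0, 1, 0, 0; 0, 0, 0, 1, 0]
def rootM2 : M5 :=
  !![0, 0, 0, 1, 0; 0, 0, 0, 0, 1; 1, 0, 0, 1, 0; 0, 1, 0, 0, 1; 0, 0, 1, 0, 0]
def rootM4 : M5 :=
  !![0, 1, 0, 0, 1; 0, 0, 1, 0, 0; 0, 1, 0, 1, 1; 0, 0, 1, 0, 1; 1, 0, 0, 1, 0]
def rootM8 : M5 :=
  !![1, 0, 1, 1, 0; 0, 1, 0, 1, 1; 1, 0, 0, 1, 1; 1, 1, 0, 0, 1; 0, 1, 1, 0, 0]
def rootM16 : M5 :=
  !![1, 1, 1, 0, 0; 1, 1, 1, 1, 0; 0, 0, 0, 1, 1; 1, 0, 0, 0, 1; 1, 1, 0, 0, 0]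
/-- The Frobenius automorphism of the field. -/
def frobM : M5 :=
  !![1, 0, 0, 0, 1; 0, 0, 0, 1, 0; 0, 1, 0, 0, 1; 0, 0, 0, 1, 1; 0, 0, 1, 0, 0]
def frobM2 : M5 :=
  !![1, 0, 1, 0, 1; 0, 0, 0, 1, 1; 0, 0, 1, 1, 0; 0, 0, 1, 1, 1; 0, 1, 0, 0, 1]
def frobM4 : M5 :=
  !![1, 1, 0, 1, 0; 0, 1, 1, 1, 0; 0, 0, 0, 0, 1; 0, 1, 0, 0, 0; 0, 1, 0, 1, 0]

theorem mat_facts : rootM * rootM = rootM2 ∧ rootM2 * rootM2 = rootM4 ∧ rootM4 * rootM4 = rootM8 ∧
    rootM8 * rootM8 = rootM16 ∧ rootM16 * rootM16 = rootM ∧ frobM * rootM = rootM2 * frobM ∧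
    frobM * frobM = frobM2 ∧ frobM2 * frobM2 = frobM4 ∧ frobM4 * frobM = 1 := by decide +kernel

theorem det_facts : rootM.det = 1 ∧ frobM.det = 1 ∧ rootM ≠ 1 := by decide +kernel

/-- The root, in `SL(5,2)`. -/
def rootS : Matrix.SpecialLinearGroup (Fin 5) (ZMod 2) := ⟨rootM, det_facts.1⟩
/-- The Frobenius automorphism, in `SL(5,2)`. -/
def frobS : Matrix.SpecialLinearGroup (Fin 5) (ZMod 2) := ⟨frobM, det_facts.2.1⟩

end Data

open Data in
/-- A Frobenius group `31:5` in `SL(5,2)`. -/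
theorem sl52_frobenius : ∃ a b : Matrix.SpecialLinearGroup (Fin 5) (ZMod 2),
    orderOf a = 31 ∧ b ^ 5 = 1 ∧ b * a * b⁻¹ = a * a := by
  obtain ⟨e1, e2, e3, e4, e5, e6, e7, e8, e9⟩ := mat_facts
  haveI : Fact (Nat.Prime 31) := ⟨by norm_num⟩
  refine ⟨rootS, frobS, ?_, Subtype.ext ?_, ?_⟩
  · refine orderOf_eq_prime ?_ fun h => det_facts.2.2 (congrArg Subtype.val h)
    have h32 : rootS ^ (31 + 1) = rootS := by
      refine Subtype.ext ?_
      rw [Matrix.SpecialLinearGroup.coe_pow]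
      show rootM ^ (31 + 1) = rootM
      have h : ((((rootM ^ 2) ^ 2) ^ 2) ^ 2) ^ 2 = rootM := by simp only [sq, e1, e2, e3, e4, e5]
      simpa only [← pow_mul] using h
    rw [pow_succ] at h32
    exact mul_eq_right.mp h32
  · rw [Matrix.SpecialLinearGroup.coe_pow, Matrix.SpecialLinearGroup.coe_one]
    show frobM ^ 5 = 1
    have h : (frobM ^ 2) ^ 2 * frobM = 1 := by simp only [sq, e7, e8, e9]
    simpa only [← pow_mul, ← pow_succ] using h
  · rw [mul_inv_eq_iff_eq_mul]
    refine Subtype.ext ?_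
    rw [Matrix.SpecialLinearGroup.coe_mul, Matrix.SpecialLinearGroup.coe_mul,
      Matrix.SpecialLinearGroup.coe_mul]
    show frobM * rootM = rootM * rootM * frobM
    rw [e1, e6]

end Cfsg.Agent.Lib.J4BigPrimes
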