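import Cfsg.Agent.Lib.J4BigPrimes.Data
import Cfsg.Agent.Lib.J4Five.Orbits

/-!
# Centralisers of elements of order 2, 3, 5, 7, and the centralizer of an element of order eleven
-/

set_option autoImplicit false
set_option linter.unusedSectionVars false

namespace Cfsg.Agent.Lib.J4BigPrimes

open Cfsg.Agent.Lib.J4Local
open Cfsg.Agent.Lib.LargeExtraspecial.Basic

variable {G : Type*} [Group G]

/-- The inputs: the order, and consequences of the rows on the local subgroups. -/
structure Inputs (z : G) : Prop where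
  order : Nat.card G = 86775571046077562880
  m24 : ∃ f : ↥Cfsg.M24 →* G, Function.Injective f
  sl52 : ∃ f : Matrix.SpecialLinearGroup (Fin 5) (ZMod 2) →* G, Function.Injective f
  five : ∀ x : G, orderOf x = 5 → x ∈ cz z → Nat.card ↥(cz x) ∣ 26880
  seven : ∀ x : G, orderOf x = 7 → x ∈ cz z → Nat.card ↥(cz x) ∣ 2520
  self : ∀ V : Subgroup G, Cfsg.IsElementaryAbelian 2 V → Nat.card ↥V = 2 ^ 11 →
    Subgroup.centralizer (V : Set G) ≤ V
  second : ∀ t : G, orderOf t = 2 → ¬ IsConj z t → ∃ V K : Subgroup G,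
    V ≤ Subgroup.centralizer ({t} : Set G) ∧ K ≤ Subgroup.centralizer ({t} : Set G) ∧
    Subgroup.centralizer ({t} : Set G) ≤ Subgroup.normalizer (V : Set G) ∧
    Cfsg.IsElementaryAbelian 2 V ∧ Nat.card ↥V = 2 ^ 11 ∧ K ⊓ V = ⊥ ∧
    K ⊔ V = Subgroup.centralizer ({t} : Set G) ∧ Nonempty (↥K ≃* AutM22)

variable [Finite G] {z p : G}

/-- A central element of prime order in a non-trivial `q`-subgroup. -/
theorem exists_central {q : ℕ} [Fact q.Prime] {R : Subgroup G} (hR : IsPGroup q ↥R)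
    (h1 : R ≠ ⊥) : ∃ w ∈ R, orderOf w = q ∧ R ≤ cz w := by
  have : Nontrivial ↥R := (Subgroup.nontrivial_iff_ne_bot R).mpr h1
  have : Nontrivial ↥(Subgroup.center ↥R) := hR.center_nontrivial
  obtain ⟨k, hk⟩ := (hR.to_subgroup (Subgroup.center ↥R)).exists_card_eq
  have hk0 : k ≠ 0 := by
    rintro rfl
    have := (Finite.one_lt_card_iff_nontrivial (α := ↥(Subgroup.center ↥R))).mpr this
    rw [pow_zero] at hk
    omega
  obtain ⟨c, hc⟩ := exists_prime_orderOf_dvd_card' (G := ↥(Subgroup.center ↥R)) q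
    (by rw [hk]; exact dvd_pow_self q hk0)
  refine ⟨((c : ↥R) : G), (c : ↥R).2, ?_, fun a ha => mem_cz.mpr ?_⟩
  · rw [← hc]
    exact (orderOf_injective R.subtype Subtype.coe_injective _).trans
      (orderOf_injective (Subgroup.center ↥R).subtype Subtype.coe_injective c)
  · exact congrArg Subtype.val ((Subgroup.mem_center_iff.mp c.2) ⟨a, ha⟩)

theorem card_cz_conj (g w : G) : Nat.card ↥(cz (g * w * g⁻¹)) = Nat.card ↥(cz w) := by
  have h : cz (g * w * g⁻¹) = (cz w).map (MulAut.conj g).toMonoidHom := by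
    ext d
    rw [Subgroup.mem_map_equiv, mem_cz, mem_cz, MulAut.conj_symm_apply]
    constructor
    · intro hd
      have := hd.map (MulAut.conj g⁻¹)
      simp only [MulAut.conj_apply, inv_inv] at this
      rwa [show g⁻¹ * (g * w * g⁻¹) * g = w by group] at this
    · intro hd
      have := hd.map (MulAut.conj g)
      simp only [MulAut.conj_apply] at this
      rwa [show g * (g⁻¹ * d * g) * g⁻¹ = d by group] at this
  rw [h, Subgroup.card_map_of_injective (MulAut.conj g).injective]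

theorem card_cent_second (F : AutFacts) (I : Inputs z) {t : G} (ht : orderOf t = 2)
    (htn : ¬ IsConj z t) : Nat.card ↥(cz t) = 2 ^ 11 * 887040 := by
  obtain ⟨V, K, hV, hK, hn, -, hVc, hinf, hsup, ⟨iso⟩⟩ := I.second t ht htn
  obtain ⟨χ, hχ, hχk⟩ := J4Five.quot_hom hK hn hinf hsup iso
  rw [(J4Five.card_split hV hχ hχk).1, hVc, F.card_aut]

/-- Every element of prime order `q` has its centralizer conjugate to one met in `C(z)`, provided
the Sylow `q`-subgroups have order `q`. -/
theorem cent_of_cyclic {q : ℕ} [hq : Fact q.Prime] {N : ℕ} (hqq : ¬ q ^ 2 ∣ Nat.card G)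
    (hqz : q ∣ Nat.card ↥(cz z))
    (h : ∀ x : G, orderOf x = q → x ∈ cz z → Nat.card ↥(cz x) ∣ N) {w : G}
    (hw : orderOf w = q) : Nat.card ↥(cz w) ∣ N := by
  obtain ⟨⟨x, hx⟩, hx'⟩ := exists_prime_orderOf_dvd_card' (G := ↥(cz z)) q hqz
  rw [Subgroup.orderOf_mk] at hx'
  have key : ∀ {c : G}, orderOf c = q →
      ∃ P : Sylow q G, (P : Subgroup G) = Subgroup.zpowers c := by
    intro c hc
    have hcard : Nat.card ↥(Subgroup.zpowers c) = q ^ 1 := by rw [Nat.card_zpowers, hc, pow_one]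
    obtain ⟨P, hP⟩ := (IsPGroup.of_card hcard).exists_le_sylow
    obtain ⟨k, hk⟩ := P.2.exists_card_eq
    refine ⟨P, (Subgroup.eq_of_le_of_card_ge hP ?_).symm⟩
    rw [hk, hcard]
    refine Nat.pow_le_pow_right hq.out.pos ?_
    by_contra hgt
    exact hqq ((pow_dvd_pow q (show 2 ≤ k by omega)).trans
      (hk ▸ Subgroup.card_subgroup_dvd_card _))
  obtain ⟨P, hP⟩ := key hw
  obtain ⟨R, hR⟩ := key hx'
  obtain ⟨g, hg⟩ := MulAction.exists_smul_eq G P R
  have hmem : g * w * g⁻¹ ∈ ((g • P : Sylow q G) : Subgroup G) :=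
    Subgroup.smul_mem_pointwise_smul w (MulAut.conj g) _ (hP.ge (Subgroup.mem_zpowers w))
  rw [hg, hR] at hmem
  have heq : Subgroup.zpowers (g * w * g⁻¹) = Subgroup.zpowers x :=
    Subgroup.eq_of_le_of_card_ge (Subgroup.zpowers_le.mpr hmem) (by
      rw [Nat.card_zpowers, Nat.card_zpowers, hx']
      exact ((MulEquiv.orderOf_eq (MulAut.conj g) w).trans hw).ge)
  have hcz : cz (g * w * g⁻¹) = cz x := by
    show Subgroup.centralizer _ = Subgroup.centralizer _
    rw [← Subgroup.centralizer_closure, ← Subgroup.zpowers_eq_closure, heq,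
      Subgroup.zpowers_eq_closure, Subgroup.centralizer_closure]
  rw [← card_cz_conj g w, hcz]
  exact h x hx' hx

variable (S : Setting z p) (F : AutFacts) (I : Inputs z)
include S F I

theorem cent_five {w : G} (hw : orderOf w = 5) : Nat.card ↥(cz w) ∣ 26880 := by
  have := Fact.mk Nat.prime_five
  exact cent_of_cyclic (by rw [I.order]; norm_num) (by rw [S.card_cz F]; norm_num) I.five hw

theorem cent_seven {w : G} (hw : orderOf w = 7) : Nat.card ↥(cz w) ∣ 2520 := by
  have := Fact.mk (by norm_num : Nat.Prime 7)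
  exact cent_of_cyclic (by rw [I.order]; norm_num) (by rw [S.card_cz F]; norm_num) I.seven hw

/-- The centralizer of an element of order three lies in that of a conjugate of `z`. -/
theorem cent_three [IsSimpleGroup G] (hG : ¬ IsMulCommutative G) {r : G} (hr : orderOf r = 3) :
    ∃ w s, Setting w s ∧ cz r ≤ cz w := by
  obtain ⟨g, hg⟩ := isConj_iff.mp (S.three_conj hG F hr)
  subst hg
  have S' := S.conj g
  exact ⟨_, _, S', fun d hd => mem_cz.mpr (S'.normalizer_p_le hG F
    (Subgroup.centralizer_le_normalizer _ (by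
      rw [Subgroup.zpowers_eq_closure, Subgroup.centralizer_closure]; exact hd)))⟩

/-- Centralisers of elements of order 2, 3, 5, 7 are small. -/
theorem cent_small [IsSimpleGroup G] (hG : ¬ IsMulCommutative G) {w : G}
    (hw : orderOf w = 2 ∨ orderOf w = 3 ∨ orderOf w = 5 ∨ orderOf w = 7) :
    Nat.card ↥(cz w) ∣ 2 ^ 21 * 3 ^ 3 * 5 * 7 * 11 := by
  rcases hw with h | h | h | h
  · by_cases hz : IsConj z w
    · obtain ⟨g, rfl⟩ := isConj_iff.mp hz
      rw [card_cz_conj, S.card_cz F]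
      norm_num
    · rw [card_cent_second F I h hz]
      norm_num
  · obtain ⟨v, s, S', hle⟩ := cent_three S F I hG h
    exact (Subgroup.card_dvd_of_le hle).trans (by rw [S'.card_cz F]; norm_num)
  · exact (cent_five S F I h).trans (by norm_num)
  · exact (cent_seven S F I h).trans (by norm_num)

omit S I

/-- An element of order eleven maps to one of order eleven. -/
theorem img_eleven {w s : G} (T : Setting w s) {y : G} (hy : y ∈ cz w) (h11 : orderOf y = 11) :
    orderOf (T.img y) = 11 := by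
  have : Fact (Nat.Prime 11) := ⟨by norm_num⟩
  refine orderOf_eq_prime ?_ fun h => ?_
  · rw [← T.img_pow hy, ← h11, pow_orderOf_eq_one, T.img_of_mem (one_mem _)]
    exact map_one _
  · rw [T.img_of_mem hy] at h
    have hk : (⟨y, hy⟩ : ↥(cz w)) ∈ T.phi.ker := h
    have h1 := orderOf_dvd_natCard (⟨_, hk⟩ : ↥T.phi.ker)
    rw [T.card_ker, Subgroup.orderOf_mk, Subgroup.orderOf_mk, h11] at h1
    norm_num at h1

/-- A `q`-subgroup of `C(w) ∩ C(y)`, `q ≠ 11`, maps trivially. -/
theorem img_trivial {w s : G} (T : Setting w s) {y : G} (hy : y ∈ cz w) (h11 : orderOf y = 11)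
    {q : ℕ} [Fact q.Prime] (hq : q ≠ 11) {R : Subgroup G} (hR : IsPGroup q ↥R)
    (hle : R ≤ cz w ⊓ cz y) {d : G} (hd : d ∈ R) : T.img d = 1 := by
  obtain ⟨k, hk⟩ := hR ⟨d, hd⟩
  have hk' : d ^ q ^ k = 1 := congrArg Subtype.val hk
  have hdw := (hle hd).1
  have hc : T.img d ∈ Subgroup.centralizer ({T.img y} : Set AutM22) := by
    refine mem_centralizer_single.mpr ?_
    show T.img d * T.img y = T.img y * T.img d
    rw [← T.img_mul hdw hy, ← T.img_mul hy hdw, (mem_cz.mp (hle hd).2).eq]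
  have h1 := orderOf_dvd_natCard (⟨_, hc⟩ : ↥(Subgroup.centralizer ({T.img y} : Set AutM22)))
  rw [Subgroup.orderOf_mk, cent_eleven (img_eleven F T hy h11)] at h1
  have h2 : orderOf (T.img d) ∣ q ^ k := by
    refine orderOf_dvd_of_pow_eq_one ?_
    rw [← T.img_pow hdw, hk', T.img_of_mem (one_mem _)]
    exact map_one _
  have hcop : Nat.Coprime (q ^ k) 11 :=
    Nat.Coprime.pow_left k ((Nat.coprime_primes (Fact.out : q.Prime) (by norm_num)).mpr hq)
  exact orderOf_eq_one_iff.mp (Nat.dvd_one.mp (hcop ▸ Nat.dvd_gcd h2 h1))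

include S I

/-- 2-subgroups centralising an element of order eleven have order at most eight. -/
theorem two_part {y : G} (h11 : orderOf y = 11) {R : Subgroup G} (hR : IsPGroup 2 ↥R)
    (hle : R ≤ cz y) : Nat.card ↥R ∣ 8 := by
  classical
  have := Fact.mk Nat.prime_two
  have : Fact (Nat.Prime 11) := ⟨by norm_num⟩
  have hy11 : y ^ 11 = 1 := by rw [← h11, pow_orderOf_eq_one]
  by_cases h1 : R = ⊥
  · rw [h1, Subgroup.card_bot]; norm_num
  obtain ⟨w, hwR, hwo, hRw⟩ := exists_central hR h1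
  have hyw : y ∈ cz w := mem_cz.mpr (mem_cz.mp (hle hwR)).symm
  by_cases hz : IsConj z w
  · obtain ⟨s, T⟩ := S.exists_setting hz
    have hsub : R ≤ Q w ⊓ cz y := fun d hd => by
      obtain ⟨k, hk⟩ := hR ⟨d, hd⟩
      exact ⟨T.mem_Q_of_img_one (hRw hd)
        (img_trivial F T hyw h11 (by norm_num) hR (le_inf hRw hle) hd)
        (congrArg Subtype.val hk), hle hd⟩
    refine (Subgroup.card_dvd_of_le hsub).trans ?_
    have hmod := Cfsg.Agent.Lib.J4Local.Five.card_fixed_modEq (K := Q w) hy11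
      fun v hv => T.conj_mem hyw hv
    change _ ≡ Nat.card ↥(Q w ⊓ cz y) [MOD 11] at hmod
    obtain ⟨k, hk13, hk⟩ := (Nat.dvd_prime_pow Nat.prime_two).mp
      (T.card_E ▸ Subgroup.card_dvd_of_le (inf_le_left : Q w ⊓ cz y ≤ Q w))
    rw [T.card_E, hk, Nat.ModEq] at hmod
    have hne : k ≠ 13 := by
      rintro rfl
      have heq : Q w ⊓ cz y = Q w :=
        Subgroup.eq_of_le_of_card_ge inf_le_left (by rw [hk, T.card_E])
      have hyQ := T.self_centralizing y (mem_cz.mp hyw) fun f hf => mem_cz.mp (heq.ge hf).2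
      have := orderOf_dvd_of_pow_eq_one (T.pow_Q hyQ)
      rw [h11] at this
      norm_num at this
    rw [hk]
    interval_cases k <;> simp_all
  · obtain ⟨V, K, hV, hK, hn, hVe, hVc, hinf, hsup, ⟨iso⟩⟩ := I.second w hwo hz
    obtain ⟨χ, hχ, hχk⟩ := J4Five.quot_hom hK hn hinf hsup iso
    have hy' : orderOf (χ ⟨y, hyw⟩) = 11 := by
      refine orderOf_eq_prime ?_ fun h => ?_
      · rw [← map_pow, show (⟨y, hyw⟩ : ↥(cz w)) ^ 11 = 1 from Subtype.ext hy11, map_one]
      · have hyV : y ∈ V := (hχk _).mp h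
        have := Subgroup.card_dvd_of_le (Subgroup.zpowers_le.mpr hyV)
        rw [Nat.card_zpowers, h11, hVc] at this
        norm_num at this
    have hsub : R ≤ V ⊓ cz y := fun d hd => by
      refine ⟨(hχk ⟨d, hRw hd⟩).mp ?_, hle hd⟩
      obtain ⟨k, hk⟩ := hR ⟨d, hd⟩
      have hc : χ ⟨d, hRw hd⟩ ∈
          Subgroup.centralizer ({χ ⟨y, hyw⟩} : Set AutM22) := by
        refine mem_centralizer_single.mpr ?_
        show _ * _ = _ * _
        rw [← map_mul, ← map_mul]
        exact congrArg χ (Subtype.ext (mem_cz.mp (hle hd)).eq)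
      have h1 := orderOf_dvd_natCard (⟨_, hc⟩ : ↥(Subgroup.centralizer ({χ ⟨y, hyw⟩} : Set AutM22)))
      rw [Subgroup.orderOf_mk, cent_eleven hy'] at h1
      have h2 : orderOf (χ ⟨d, hRw hd⟩) ∣ 2 ^ k := by
        refine orderOf_dvd_of_pow_eq_one ?_
        rw [← map_pow, show (⟨d, hRw hd⟩ : ↥(cz w)) ^ 2 ^ k = 1 from
          Subtype.ext (congrArg Subtype.val hk :), map_one]
      have hcop : Nat.Coprime (2 ^ k) 11 := Nat.Coprime.pow_left k (by norm_num)
      exact orderOf_eq_one_iff.mp (Nat.dvd_one.mp (hcop ▸ Nat.dvd_gcd h2 h1))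
    refine (Subgroup.card_dvd_of_le hsub).trans ?_
    have hmod := Cfsg.Agent.Lib.J4Local.Five.card_fixed_modEq (K := V) hy11
      fun v hv => (Subgroup.mem_normalizer_iff.mp (hn hyw) v).mp hv
    change _ ≡ Nat.card ↥(V ⊓ cz y) [MOD 11] at hmod
    obtain ⟨k, hk11, hk⟩ := (Nat.dvd_prime_pow Nat.prime_two).mp
      (hVc ▸ Subgroup.card_dvd_of_le (inf_le_left : V ⊓ cz y ≤ V))
    rw [hVc, hk, Nat.ModEq] at hmod
    have hne : k ≠ 11 := by
      rintro rfl
      have heq : V ⊓ cz y = V := Subgroup.eq_of_le_of_card_ge inf_le_left (by rw [hk, hVc])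
      have hyV := I.self V hVe hVc (Subgroup.mem_centralizer_iff.mpr fun v hv =>
        (mem_cz.mp (heq.ge hv).2).eq)
      have := Subgroup.card_dvd_of_le (Subgroup.zpowers_le.mpr hyV)
      rw [Nat.card_zpowers, h11, hVc] at this
      norm_num at this
    rw [hk]
    interval_cases k <;> simp_all

/-- 3-subgroups centralising an element of order eleven have order at most three. -/
theorem three_part [IsSimpleGroup G] (hG : ¬ IsMulCommutative G) {y : G} (h11 : orderOf y = 11)
    {R : Subgroup G} (hR : IsPGroup 3 ↥R) (hle : R ≤ cz y) : Nat.card ↥R ∣ 3 := by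
  have := Fact.mk Nat.prime_three
  by_cases h1 : R = ⊥
  · rw [h1, Subgroup.card_bot]; norm_num
  obtain ⟨r, hrR, hro, hRr⟩ := exists_central hR h1
  obtain ⟨w, s, T, hrw⟩ := cent_three S F I hG hro
  have hyw : y ∈ cz w := hrw (mem_cz.mpr (mem_cz.mp (hle hrR)).symm)
  have hker : R.subgroupOf (cz w) ≤ T.phi.ker := fun d hd => by
    rw [MonoidHom.mem_ker]
    have h := img_trivial F T hyw h11 (by norm_num) hR (le_inf (hRr.trans hrw) hle)
      (Subgroup.mem_subgroupOf.mp hd)
    rwa [T.img_of_mem d.2] at h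
  have h := Subgroup.card_dvd_of_le hker
  rw [Nat.card_congr (Subgroup.subgroupOfEquivOfLe (hRr.trans hrw)).toEquiv, T.card_ker] at h
  obtain ⟨k, hk⟩ := hR.exists_card_eq
  rw [hk] at h ⊢
  exact (Nat.Coprime.dvd_of_dvd_mul_right
    (Nat.Coprime.pow k 13 (by norm_num : Nat.Coprime 3 2)) h)

end Cfsg.Agent.Lib.J4BigPrimes
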