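import Cfsg.Agent.Lib.J4BigPrimes.Local
import Cfsg.Agent.Lib.J4BigPrimes.Arith

/-!
# The normalisers of the Sylow subgroups for 23, 29, 31, 37, 43
-/

set_option autoImplicit false
set_option linter.unusedSectionVars false

namespace Cfsg.Agent.Lib.J4BigPrimes

open Cfsg.Agent.Lib.J4Local
open Cfsg.Agent.Lib.LargeExtraspecial.Basic

/-- The normalizer of the subgroup generated by an element. -/
abbrev nz {W : Type*} [Group W] (u : W) : Subgroup W :=
  Subgroup.normalizer ((Subgroup.zpowers u : Subgroup W) : Set W)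

/-- The action of the normalizer on the subgroup generated by an element. -/
noncomputable abbrev act {W : Type*} [Group W] (u : W) :
    ↥(nz u) →* MulAut ↥(Subgroup.zpowers u) :=
  (Subgroup.zpowers u).normalizerMonoidHom

/-- The index of the centralizer in the normalizer. -/
noncomputable abbrev idxOf {W : Type*} [Group W] (u : W) : ℕ := Nat.card ↥(act u).range

theorem zmod_eleven : ∀ a : ZMod 11, a ^ 3 = 1 → a = 1 := by decide

section General

variable {W : Type*} [Group W] [Finite W]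

theorem cz_le_nz (u : W) : cz u ≤ nz u := fun d hd => Subgroup.centralizer_le_normalizer _ (by
  rw [Subgroup.zpowers_eq_closure, Subgroup.centralizer_closure]; exact hd)

theorem act_eq_one (u : W) (d : ↥(nz u)) : act u d = 1 ↔ (d : W) ∈ cz u := by
  have hcen : Subgroup.centralizer ((Subgroup.zpowers u : Subgroup W) : Set W) = cz u := by
    rw [Subgroup.zpowers_eq_closure, Subgroup.centralizer_closure]
  rw [← MonoidHom.mem_ker, Subgroup.normalizerMonoidHom_ker, Subgroup.mem_subgroupOf, hcen]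

theorem card_nz (u : W) : Nat.card ↥(nz u) = Nat.card ↥(cz u) * idxOf u := by
  have h := Subgroup.card_mul_index (act u).ker
  rw [Subgroup.index_ker] at h
  rw [← h]
  congr 1
  exact Nat.card_congr ⟨fun d => ⟨d.1.1, (act_eq_one u d.1).mp d.2⟩,
    fun v => ⟨⟨v.1, cz_le_nz u v.2⟩, (act_eq_one u _).mpr v.2⟩, fun _ => rfl, fun _ => rfl⟩

theorem idx_dvd {u : W} {q : ℕ} (hq : q.Prime) (hu : orderOf u = q) : idxOf u ∣ q - 1 := by
  have h := Subgroup.card_subgroup_dvd_card (act u).range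
  rwa [IsCyclic.card_mulAut, Nat.card_zpowers, hu, Nat.totient_prime hq] at h

variable {q : ℕ} [hq : Fact q.Prime]

theorem sylow_of_order (hqq : ¬ q ^ 2 ∣ Nat.card W) {c : W} (hc : orderOf c = q) :
    ∃ P : Sylow q W, (P : Subgroup W) = Subgroup.zpowers c := by
  have hcard : Nat.card ↥(Subgroup.zpowers c) = q ^ 1 := by rw [Nat.card_zpowers, hc, pow_one]
  obtain ⟨P, hP⟩ := (IsPGroup.of_card hcard).exists_le_sylow
  obtain ⟨k, hk⟩ := P.2.exists_card_eq
  refine ⟨P, (Subgroup.eq_of_le_of_card_ge hP ?_).symm⟩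
  rw [hk, hcard]
  refine Nat.pow_le_pow_right hq.out.pos ?_
  by_contra hgt
  exact hqq ((pow_dvd_pow q (show 2 ≤ k by omega)).trans
    (hk ▸ Subgroup.card_subgroup_dvd_card _))

theorem conj_of_cyclic (hqq : ¬ q ^ 2 ∣ Nat.card W) {a b : W} (ha : orderOf a = q)
    (hb : orderOf b = q) : ∃ g, Subgroup.zpowers (g * a * g⁻¹) = Subgroup.zpowers b := by
  obtain ⟨P, hP⟩ := sylow_of_order hqq ha
  obtain ⟨R, hR⟩ := sylow_of_order hqq hb
  obtain ⟨g, hg⟩ := MulAction.exists_smul_eq W P R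
  have hmem : g * a * g⁻¹ ∈ ((g • P : Sylow q W) : Subgroup W) :=
    Subgroup.smul_mem_pointwise_smul a (MulAut.conj g) _ (hP.ge (Subgroup.mem_zpowers a))
  rw [hg, hR] at hmem
  exact ⟨g, Subgroup.eq_of_le_of_card_ge (Subgroup.zpowers_le.mpr hmem) (by
    rw [Nat.card_zpowers, Nat.card_zpowers, hb]
    exact ((MulEquiv.orderOf_eq (MulAut.conj g) a).trans ha).ge)⟩

theorem cz_eq_of_zpowers {a b : W} (h : Subgroup.zpowers a = Subgroup.zpowers b) : cz a = cz b := by
  show Subgroup.centralizer _ = Subgroup.centralizer _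
  rw [← Subgroup.centralizer_closure, ← Subgroup.zpowers_eq_closure, h,
    Subgroup.zpowers_eq_closure, Subgroup.centralizer_closure]

theorem card_cz_eq (hqq : ¬ q ^ 2 ∣ Nat.card W) {a b : W} (ha : orderOf a = q)
    (hb : orderOf b = q) : Nat.card ↥(cz a) = Nat.card ↥(cz b) := by
  obtain ⟨g, hg⟩ := conj_of_cyclic hqq ha hb
  rw [← card_cz_conj g a, cz_eq_of_zpowers hg]

theorem card_nz_eq (hqq : ¬ q ^ 2 ∣ Nat.card W) {a b : W} (ha : orderOf a = q)
    (hb : orderOf b = q) : Nat.card ↥(nz a) = Nat.card ↥(nz b) := by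
  obtain ⟨g, hg⟩ := conj_of_cyclic hqq ha hb
  have h : Subgroup.zpowers b =
      (Subgroup.zpowers a).map (MulAut.conj g).toMonoidHom := by
    rw [MonoidHom.map_zpowers, ← hg]; rfl
  rw [nz, nz, h, ← Subgroup.map_equiv_normalizer_eq,
    Subgroup.card_map_of_injective (MulAut.conj g).injective]

theorem idx_eq (hqq : ¬ q ^ 2 ∣ Nat.card W) {a b : W} (ha : orderOf a = q)
    (hb : orderOf b = q) : idxOf a = idxOf b := by
  have h := card_nz_eq hqq ha hb
  rw [card_nz, card_nz, card_cz_eq hqq ha hb] at h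
  exact Nat.eq_of_mul_eq_mul_left Nat.card_pos h

theorem sylow_count (hqq : ¬ q ^ 2 ∣ Nat.card W) {u : W} (hu : orderOf u = q) :
    ∃ n, n * Nat.card ↥(nz u) = Nat.card W ∧ n % q = 1 := by
  obtain ⟨P, hP⟩ := sylow_of_order hqq hu
  refine ⟨(nz u).index, Subgroup.index_mul_card _, ?_⟩
  have h := card_sylow_modEq_one q W
  rw [P.card_eq_index_normalizer,
    show Subgroup.normalizer (P : Set W) = nz u by
      show Subgroup.normalizer ((P : Subgroup W) : Set W) = _
      rw [hP], Nat.ModEq, Nat.mod_eq_of_lt hq.out.one_lt] at h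
  exact h

/-- A Frobenius configuration forces a divisor of the index. -/
theorem dvd_idx {B : Type*} [Group B] (f : B →* W) (hf : Function.Injective f)
    (hqq : ¬ q ^ 2 ∣ Nat.card W) {a b : B} (ha : orderOf a = q) {m : ℕ} (hm : m.Prime)
    (hb : b ^ m = 1) (hab : b * a * b⁻¹ = a * a) {u : W} (hu : orderOf u = q) : m ∣ idxOf u := by
  have haW : orderOf (f a) = q := (orderOf_injective f hf a).trans ha
  rw [idx_eq hqq hu haW]
  have hab' : f b * f a * (f b)⁻¹ = f a * f a := by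
    rw [← map_inv, ← map_mul, ← map_mul, ← map_mul, hab]
  have hbN : f b ∈ nz (f a) := mem_normalizer_of_le (by
    rintro _ ⟨k, rfl⟩
    rw [← conj_zpow, hab']
    exact zpow_mem (mul_mem (Subgroup.mem_zpowers _) (Subgroup.mem_zpowers _)) k)
  set β : ↥(act (f a)).range := ⟨act (f a) ⟨f b, hbN⟩, ⟨_, rfl⟩⟩
  have hβ : orderOf β = m := by
    have := Fact.mk hm
    refine orderOf_eq_prime ?_ fun h => ?_
    · refine Subtype.ext ?_
      show act (f a) ⟨f b, hbN⟩ ^ m = 1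
      rw [← map_pow, show (⟨f b, hbN⟩ : ↥(nz (f a))) ^ m = 1 from Subtype.ext (by
        show f b ^ m = 1
        rw [← map_pow, hb, map_one]), map_one]
    · have h1 := (act_eq_one (f a) ⟨f b, hbN⟩).mp (congrArg Subtype.val h)
      rw [mul_inv_eq_iff_eq_mul.mpr (mem_cz.mp h1).eq] at hab'
      have : f a = 1 := mul_eq_left.mp hab'.symm
      rw [this, orderOf_one] at haW
      exact hq.out.one_lt.ne haW
  exact hβ ▸ orderOf_dvd_natCard β

/-- The joint normalizer of two commuting subgroups of prime order. -/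
theorem card_joint {u w : W} (hw : orderOf w = q) (huw : Commute w u)
    (hqq : ¬ q ^ 2 ∣ Nat.card ↥(cz u)) :
    Nat.card ↥(nz u ⊓ nz w) = idxOf u * Nat.card ↥(cz u ⊓ nz w) := by
  let m : ↥(nz u ⊓ nz w) →* MulAut ↥(Subgroup.zpowers u) :=
    (act u).comp (Subgroup.inclusion inf_le_left)
  have hrange : m.range = (act u).range := by
    refine le_antisymm (by rintro _ ⟨d, rfl⟩; exact ⟨_, rfl⟩) ?_
    rintro _ ⟨n, rfl⟩
    have hmem : (n : W) * w * (n : W)⁻¹ ∈ cz u := by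
      obtain ⟨i, hi⟩ := (Subgroup.mem_normalizer_iff.mp (inv_mem n.2) u).mp
        (Subgroup.mem_zpowers u)
      have hi' : u ^ i = (n : W)⁻¹ * u * (n : W)⁻¹⁻¹ := hi
      have := (huw.zpow_right i).map (MulAut.conj (n : W))
      simp only [MulAut.conj_apply, hi', inv_inv] at this
      rw [show (n : W) * ((n : W)⁻¹ * u * n) * (n : W)⁻¹ = u by group] at this
      exact mem_cz.mpr this
    obtain ⟨h, hh⟩ := conj_of_cyclic hqq (a := (⟨_, hmem⟩ : ↥(cz u)))
      (b := ⟨w, mem_cz.mpr huw⟩)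
      (by rw [Subgroup.orderOf_mk]; exact (MulEquiv.orderOf_eq (MulAut.conj (n : W)) w).trans hw)
      (by rw [Subgroup.orderOf_mk, hw])
    obtain ⟨i, hi⟩ := hh.le (Subgroup.mem_zpowers _)
    have hi' : w ^ i = (h : W) * ((n : W) * w * (n : W)⁻¹) * (h : W)⁻¹ := congrArg Subtype.val hi
    have hnw : (h : W) * n ∈ nz w := mem_normalizer_of_le (by
      rintro _ ⟨k, rfl⟩
      rw [← conj_zpow]
      refine zpow_mem (Subgroup.mem_zpowers_iff.mpr ⟨i, ?_⟩) k
      rw [hi']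
      group)
    refine ⟨⟨(h : W) * n, mul_mem (cz_le_nz u h.2) n.2, hnw⟩, ?_⟩
    show act u (⟨h, cz_le_nz u h.2⟩ * n) = act u n
    rw [map_mul, (act_eq_one u _).mpr h.2, one_mul]
  have hc := Subgroup.card_mul_index m.ker
  rw [Subgroup.index_ker, hrange] at hc
  rw [← hc, mul_comm]
  congr 1
  exact Nat.card_congr ⟨fun d => ⟨d.1.1, (act_eq_one u _).mp d.2, d.1.2.2⟩,
    fun v => ⟨⟨v.1, cz_le_nz u v.2.1, v.2.2⟩, (act_eq_one u _).mpr v.2.1⟩,
    fun _ => rfl, fun _ => rfl⟩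

omit hq in
theorem card_half (u w : W) : ∃ k, k ∣ Nat.card (MulAut ↥(Subgroup.zpowers w)) ∧
    k ∣ Nat.card ↥(cz u) ∧ Nat.card ↥(cz u ⊓ nz w) = k * Nat.card ↥(cz u ⊓ cz w) := by
  let m : ↥(cz u ⊓ nz w) →* MulAut ↥(Subgroup.zpowers w) :=
    (act w).comp (Subgroup.inclusion inf_le_right)
  have hc := Subgroup.card_mul_index m.ker
  rw [Subgroup.index_ker] at hc
  refine ⟨Nat.card ↥m.range, Subgroup.card_subgroup_dvd_card _, ?_, ?_⟩
  · exact ((Dvd.intro_left _ hc).trans (Subgroup.card_dvd_of_le inf_le_left))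
  · rw [← hc, mul_comm]
    congr 1
    exact Nat.card_congr ⟨fun d => ⟨d.1.1, d.1.2.1, (act_eq_one w _).mp d.2⟩,
      fun v => ⟨⟨v.1, v.2.1, cz_le_nz w v.2.2⟩, (act_eq_one w _).mpr v.2.2⟩,
      fun _ => rfl, fun _ => rfl⟩

/-- Reduce the exponent of a prime in a divisibility. -/
theorem dvd_drop {n k j m r : ℕ} (hr : r.Prime) (h : n ∣ r ^ k * m) (hn : ¬ r ^ (j + 1) ∣ n) :
    n ∣ r ^ j * m := by
  obtain ⟨a, b, ha, hb, rfl⟩ := Nat.dvd_mul.mp h
  obtain ⟨i, -, rfl⟩ := (Nat.dvd_prime_pow hr).mp ha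
  refine Nat.mul_dvd_mul (pow_dvd_pow r ?_) hb
  by_contra hlt
  exact hn ((pow_dvd_pow r (by omega)).trans (dvd_mul_right _ _))

end General

variable {G : Type*} [Group G] [Finite G] {z p : G}

theorem mem_primes {q : ℕ} (h : q ∈ Arith.primes) : q.Prime ∧ ¬ q ^ 2 ∣ Arith.order ∧
    q ∣ Arith.order ∧ ¬ q ∣ 2 ^ 21 * 3 ^ 3 * 5 * 7 * 11 ∧
    Nat.gcd (q - 1) (11 ^ 3 * 23 * 29 * 31 * 37 * 43) ∣ 11 := by
  simp only [Arith.primes, List.mem_cons, List.not_mem_nil, or_false] at h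
  rcases h with rfl | rfl | rfl | rfl | rfl <;> norm_num [Arith.order]

variable [IsSimpleGroup G] (hG : ¬ IsMulCommutative G) (S : Setting z p) (F : AutFacts)
  (I : Inputs z)
include hG S F I

theorem cz_dvd {q : ℕ} (hq : q ∈ Arith.primes) {u : G} (hu : orderOf u = q) :
    Nat.card ↥(cz u) ∣ 11 ^ 3 * 23 * 29 * 31 * 37 * 43 := by
  obtain ⟨-, -, -, hq', -⟩ := mem_primes hq
  have hsmall : ∀ r : ℕ, r.Prime → (r = 2 ∨ r = 3 ∨ r = 5 ∨ r = 7) →
      ¬ r ∣ Nat.card ↥(cz u) := by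
    intro r hr hr' hdvd
    have := Fact.mk hr
    obtain ⟨⟨w, hwu⟩, hw⟩ := exists_prime_orderOf_dvd_card' (G := ↥(cz u)) r hdvd
    rw [Subgroup.orderOf_mk] at hw
    have h := cent_small S F I hG (w := w) (by rw [hw]; exact hr')
    have h1 := Subgroup.card_dvd_of_le
      (Subgroup.zpowers_le.mpr (mem_cz.mpr (mem_cz.mp hwu).symm : u ∈ cz w))
    rw [Nat.card_zpowers, hu] at h1
    exact hq' (h1.trans h)
  have hcop : Nat.Coprime (Nat.card ↥(cz u)) (2 ^ 21 * 3 ^ 3 * 5 * 7) := by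
    have key : ∀ r, r.Prime → (r = 2 ∨ r = 3 ∨ r = 5 ∨ r = 7) →
        Nat.Coprime (Nat.card ↥(cz u)) r := fun r hr hr' =>
      ((hr.coprime_iff_not_dvd).mpr (hsmall r hr hr')).symm
    refine Nat.Coprime.mul_right (Nat.Coprime.mul_right (Nat.Coprime.mul_right
      (Nat.Coprime.pow_right _ ?_) (Nat.Coprime.pow_right _ ?_)) ?_) ?_
    exacts [key 2 Nat.prime_two (by simp), key 3 Nat.prime_three (by simp),
      key 5 Nat.prime_five (by simp), key 7 (by norm_num) (by simp)]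
  refine hcop.dvd_of_dvd_mul_left (n := 11 ^ 3 * 23 * 29 * 31 * 37 * 43) ?_
  have h := Subgroup.card_subgroup_dvd_card (cz u)
  rw [I.order] at h
  exact h.trans (dvd_of_eq (by norm_num))

theorem mem_cands' {q : ℕ} (hq : q ∈ Arith.primes) {u : G} (hu : orderOf u = q) :
    (Nat.card ↥(cz u), idxOf u) ∈ Arith.opts q := by
  obtain ⟨hqp, hqq, -, -, -⟩ := mem_primes hq
  have := Fact.mk hqp
  have hqq' : ¬ q ^ 2 ∣ Nat.card G := by rw [I.order]; exact hqq
  obtain ⟨n, hn, hn1⟩ := sylow_count hqq' hu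
  rw [card_nz, I.order] at hn
  have hd := idx_dvd hqp hu
  have hd0 : idxOf u ≠ 0 := Nat.card_pos.ne'
  have hc0 : 0 < Nat.card ↥(cz u) * idxOf u := Nat.mul_pos Nat.card_pos Nat.card_pos
  have hcq : q ∣ Nat.card ↥(cz u) := by
    rw [← hu, ← Nat.card_zpowers]
    exact Subgroup.card_dvd_of_le (Subgroup.zpowers_le.mpr (mem_cz.mpr (Commute.refl u)))
  refine Arith.mem_opts hq (Arith.mem_cands (cz_dvd hG S F I hq hu))
    (lt_of_le_of_lt (Nat.le_of_dvd (by have := hqp.two_le; omega) hd)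
      (by have := hqp.two_le; omega)) hd0 ?_
  simp only [Arith.okOne, Bool.and_eq_true, Bool.or_eq_true, Bool.not_eq_true', Nat.beq_eq,
    ← Bool.not_eq_true]
  refine ⟨⟨⟨⟨⟨Nat.mod_eq_zero_of_dvd hcq, ?_⟩, ?_⟩, Nat.mod_eq_zero_of_dvd hd⟩, ?_⟩, ?_⟩
  · exact Nat.mod_eq_zero_of_dvd ⟨n, by rw [Arith.order, ← hn, mul_comm]⟩
  · rw [Arith.order, ← hn, Nat.mul_div_cancel _ hc0, hn1]
  · by_cases h23 : q = 23
    · subst h23
      obtain ⟨f, hf⟩ := I.m24
      obtain ⟨a, b, ha, hb, hab⟩ := m24_frobenius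
      exact Or.inr (Nat.mod_eq_zero_of_dvd
        (dvd_idx f hf hqq' ha (by norm_num) hb hab hu))
    · exact Or.inl h23
  · by_cases h31 : q = 31
    · subst h31
      obtain ⟨f, hf⟩ := I.sl52
      obtain ⟨a, b, ha, hb, hab⟩ := sl52_frobenius
      exact Or.inr (Nat.mod_eq_zero_of_dvd
        (dvd_idx f hf hqq' ha (by norm_num) hb hab hu))
    · exact Or.inl h31

theorem dvd_iff_dvd {q r : ℕ} (hq : q ∈ Arith.primes) (hr : r ∈ Arith.primes) {u v : G}
    (hu : orderOf u = q) (hv : orderOf v = r) (h : r ∣ Nat.card ↥(cz u)) :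
    ∃ w, orderOf w = r ∧ Commute w u ∧ q ∣ Nat.card ↥(cz v) := by
  obtain ⟨hrp, hrr, -, -, -⟩ := mem_primes hr
  have := Fact.mk hrp
  have hrr' : ¬ r ^ 2 ∣ Nat.card G := by rw [I.order]; exact hrr
  obtain ⟨⟨w, hw⟩, hwo⟩ := exists_prime_orderOf_dvd_card' (G := ↥(cz u)) r h
  rw [Subgroup.orderOf_mk] at hwo
  refine ⟨w, hwo, mem_cz.mp hw, ?_⟩
  rw [← card_cz_eq hrr' hwo hv, ← hu, ← Nat.card_zpowers]
  exact Subgroup.card_dvd_of_le (Subgroup.zpowers_le.mpr (mem_cz.mpr (mem_cz.mp hw).symm))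

theorem pair_ok {q r : ℕ} (hq : q ∈ Arith.primes) (hr : r ∈ Arith.primes)
    {u v : G} (hu : orderOf u = q) (hv : orderOf v = r) :
    Arith.pairOk (q, Nat.card ↥(cz u), idxOf u) (r, Nat.card ↥(cz v), idxOf v) = true := by
  obtain ⟨hqp, hqq, -, -, hqg⟩ := mem_primes hq
  obtain ⟨hrp, hrr, -, -, hrg⟩ := mem_primes hr
  have := Fact.mk hqp
  have hqq' : ¬ q ^ 2 ∣ Nat.card G := by rw [I.order]; exact hqq
  have hrr' : ¬ r ^ 2 ∣ Nat.card G := by rw [I.order]; exact hrr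
  by_cases h : r ∣ Nat.card ↥(cz u)
  · obtain ⟨w, hwo, hwu, h'⟩ := dvd_iff_dvd hG S F I hq hr hu hv h
    have hcu : ¬ r ^ 2 ∣ Nat.card ↥(cz u) :=
      fun hc => hrr' (hc.trans (Subgroup.card_subgroup_dvd_card _))
    have hcw : ¬ q ^ 2 ∣ Nat.card ↥(cz w) :=
      fun hc => hqq' (hc.trans (Subgroup.card_subgroup_dvd_card _))
    have e1 : Nat.card ↥(nz u ⊓ nz w) = idxOf u * Nat.card ↥(cz u ⊓ nz w) :=
      haveI := Fact.mk hrp
      card_joint hwo hwu hcu
    have e2 : Nat.card ↥(nz w ⊓ nz u) = idxOf w * Nat.card ↥(cz w ⊓ nz u) :=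
      card_joint hu hwu.symm hcw
    obtain ⟨k1, k1a, k1b, e3⟩ := card_half u w
    obtain ⟨k2, k2a, k2b, e4⟩ := card_half w u
    rw [inf_comm (a := nz w), inf_comm (a := cz w) (b := cz u)] at *
    have hk1 : k1 = 1 ∨ k1 = 11 := by
      rw [IsCyclic.card_mulAut, Nat.card_zpowers, hwo, Nat.totient_prime hrp] at k1a
      exact (Nat.dvd_prime (by norm_num)).mp
        ((Nat.dvd_gcd k1a (k1b.trans (cz_dvd hG S F I hq hu))).trans hrg)
    have hk2 : k2 = 1 ∨ k2 = 11 := by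
      rw [IsCyclic.card_mulAut, Nat.card_zpowers, hu, Nat.totient_prime hqp] at k2a
      exact (Nat.dvd_prime (by norm_num)).mp
        ((Nat.dvd_gcd k2a (k2b.trans (cz_dvd hG S F I hr hwo))).trans hqg)
    have heq : idxOf u * k1 = idxOf v * k2 := by
      haveI := Fact.mk hrp
      rw [← idx_eq hrr' hwo hv]
      refine Nat.eq_of_mul_eq_mul_right (Nat.card_pos (α := ↥(cz u ⊓ cz w))) ?_
      rw [mul_assoc, ← e3, ← e1, mul_assoc, ← e4, ← e2]
    simp only [Arith.pairOk, Nat.mod_eq_zero_of_dvd h, Nat.mod_eq_zero_of_dvd h',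
      List.any_cons, List.any_nil, Bool.or_false]
    rcases hk1 with rfl | rfl <;> rcases hk2 with rfl | rfl <;> simp [heq]
  · have h' : ¬ q ∣ Nat.card ↥(cz v) := fun h' => h
      (by obtain ⟨w, -, -, hh⟩ := dvd_iff_dvd hG S F I hr hq hv hu h'; exact hh)
    rw [Nat.dvd_iff_mod_eq_zero] at h h'
    have b1 : Nat.beq (Nat.card ↥(cz u) % r) 0 = false := by
      rw [← Bool.not_eq_true, Nat.beq_eq]; exact h
    have b2 : Nat.beq (Nat.card ↥(cz v) % q) 0 = false := by
      rw [← Bool.not_eq_true, Nat.beq_eq]; exact h'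
    simp [Arith.pairOk, b1, b2]

/-- The centralizer and the index are as expected. -/
theorem determined {q : ℕ} (hq : q ∈ Arith.primes) {u : G} (hu : orderOf u = q) :
    (Nat.card ↥(cz u), idxOf u) = Arith.target q ∨
      (q = 31 ∧ (Nat.card ↥(cz u), idxOf u) = (341, 15)) := by
  classical
  have hex : ∀ r, r ∈ Arith.primes → ∃ v : G, orderOf v = r := fun r hr => by
    have := Fact.mk (mem_primes hr).1
    exact exists_prime_orderOf_dvd_card' r (by rw [I.order]; exact (mem_primes hr).2.2.1)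
  let rep : ℕ → G := fun r => if r = q then u else
    if h : r ∈ Arith.primes then (hex r h).choose else 1
  have hrep : ∀ r ∈ Arith.primes, orderOf (rep r) = r := fun r hr => by
    by_cases h : r = q
    · simp only [rep, if_pos h]; rw [hu, h]
    · simp only [rep, if_neg h, dif_pos hr]; exact (hex r hr).choose_spec
  have h := Arith.determined (fun r => (Nat.card ↥(cz (rep r)), idxOf (rep r)))
    (fun r hr => mem_cands' hG S F I hr (hrep r hr))
    (fun r hr r' hr' _ => pair_ok hG S F I hr hr' (hrep r hr) (hrep r' hr')) hq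
  have hq' : rep q = u := if_pos rfl
  simpa only [hq'] using h

/-- The exceptional case at 31 does not happen. -/
theorem not_bad {u : G} (hu : orderOf u = 31) (hc : Nat.card ↥(cz u) = 341)
    (hd : idxOf u = 15) : False := by
  classical
  have h31 : (31 : ℕ) ∈ Arith.primes := by decide
  have : Fact (Nat.Prime 31) := ⟨by norm_num⟩
  have : Fact (Nat.Prime 11) := ⟨by norm_num⟩
  have := Fact.mk Nat.prime_three
  obtain ⟨⟨y, hyC⟩, hy⟩ := exists_prime_orderOf_dvd_card' (G := ↥(cz u)) 11 (by rw [hc]; norm_num)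
  rw [Subgroup.orderOf_mk] at hy
  have hyu : Commute y u := mem_cz.mp hyC
  have hgen : Subgroup.zpowers (u * y) = cz u := by
    refine Subgroup.eq_of_le_of_card_ge (Subgroup.zpowers_le.mpr
      (mul_mem (mem_cz.mpr (Commute.refl u)) hyC)) ?_
    rw [Nat.card_zpowers, hc, hyu.symm.orderOf_mul_eq_mul_orderOf_of_coprime
      (by rw [hu, hy]; norm_num), hu, hy]
  have hCy : cz u ≤ cz y := fun d hd => by
    obtain ⟨i, rfl⟩ := hgen.ge hd
    exact mem_cz.mpr (((hyu.symm).mul_left (Commute.refl y)).zpow_left i)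
  -- an element of order three
  have hN : Nat.card ↥(nz u) = 5115 := by rw [card_nz, hc, hd]
  obtain ⟨⟨r, hrN⟩, hr⟩ := exists_prime_orderOf_dvd_card' (G := ↥(nz u)) 3 (by rw [hN]; norm_num)
  rw [Subgroup.orderOf_mk] at hr
  have hryC : r * y * r⁻¹ ∈ cz u := by
    obtain ⟨i, hi⟩ := (Subgroup.mem_normalizer_iff.mp (inv_mem hrN) u).mp (Subgroup.mem_zpowers u)
    have hi' : u ^ i = r⁻¹ * u * r⁻¹⁻¹ := hi
    have := (hyu.zpow_right i).map (MulAut.conj r)
    simp only [MulAut.conj_apply, hi', inv_inv] at this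
    rw [show r * (r⁻¹ * u * r) * r⁻¹ = u by group] at this
    exact mem_cz.mpr this
  obtain ⟨c, hc'⟩ := conj_of_cyclic (W := ↥(cz u)) (q := 11) (by rw [hc]; norm_num)
    (a := ⟨_, hryC⟩) (b := ⟨y, hyC⟩)
    (by rw [Subgroup.orderOf_mk]; exact (MulEquiv.orderOf_eq (MulAut.conj r) y).trans hy)
    (by rw [Subgroup.orderOf_mk, hy])
  obtain ⟨i, hi⟩ := hc'.le (Subgroup.mem_zpowers _)
  have hi' : y ^ i = (c : G) * (r * y * r⁻¹) * (c : G)⁻¹ := congrArg Subtype.val hi
  have hcc : Commute (c : G) (r * y * r⁻¹) := by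
    obtain ⟨a, ha⟩ := hgen.ge c.2
    obtain ⟨b, hb⟩ := hgen.ge hryC
    rw [← ha, ← hb]
    exact ((Commute.refl (u * y)).zpow_left a).zpow_right b
  rw [mul_inv_eq_iff_eq_mul.mpr hcc.eq] at hi'
  have hpow : ∀ l : ℕ, r ^ l * y * (r ^ l)⁻¹ = y ^ (i ^ l) := by
    intro l
    induction l with
    | zero => simp
    | succ m ih =>
      rw [pow_succ', show r * r ^ m * y * (r * r ^ m)⁻¹ = r * (r ^ m * y * (r ^ m)⁻¹) * r⁻¹ by
        group, ih, ← conj_zpow, ← hi', ← zpow_mul, ← pow_succ']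
  have hry : Commute r y := by
    have h3 := hpow 3
    rw [show r ^ 3 = 1 by rw [← hr, pow_orderOf_eq_one], one_mul, inv_one, mul_one] at h3
    have h1 : y ^ (1 : ℤ) = y ^ (i ^ 3) := by rwa [zpow_one]
    rw [zpow_eq_zpow_iff_modEq, hy] at h1
    have hmod : i ≡ 1 [ZMOD (11 : ℕ)] := by
      rw [← ZMod.intCast_eq_intCast_iff] at h1 ⊢
      push_cast at h1 ⊢
      exact zmod_eleven _ h1.symm
    rw [← hy, ← zpow_eq_zpow_iff_modEq, zpow_one, hi'] at hmod
    exact mul_inv_eq_iff_eq_mul.mp hmod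
  obtain ⟨w, s, T, hrw⟩ := cent_three S F I hG hr
  have hwy : w ∈ cz y := mem_cz.mpr (mem_cz.mp (hrw (mem_cz.mpr hry.symm))).symm
  set D := cz y with hD
  have hDdvd : Nat.card ↥D ∣ 2 ^ 3 * 3 * 11 ^ 3 * 31 := by
    have hno : ∀ q : ℕ, q.Prime → ¬ 11 ∣ q → (∀ v : G, orderOf v = q → ¬ 11 ∣ Nat.card ↥(cz v)) →
        ¬ q ∣ Nat.card ↥D := by
      intro q hq _ hv hdvd
      have := Fact.mk hq
      obtain ⟨⟨v, hvD⟩, hv'⟩ := exists_prime_orderOf_dvd_card' (G := ↥D) q hdvd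
      rw [Subgroup.orderOf_mk] at hv'
      refine hv v hv' ?_
      rw [← hy, ← Nat.card_zpowers]
      exact Subgroup.card_dvd_of_le (Subgroup.zpowers_le.mpr (mem_cz.mpr (mem_cz.mp hvD).symm))
    have h5 : ¬ 5 ∣ Nat.card ↥D := hno 5 Nat.prime_five (by norm_num) fun v hv h =>
      absurd (h.trans (cent_five S F I hv)) (by norm_num)
    have h7 : ¬ 7 ∣ Nat.card ↥D := hno 7 (by norm_num) (by norm_num) fun v hv h =>
      absurd (h.trans (cent_seven S F I hv)) (by norm_num)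
    have hbig : ∀ q ∈ Arith.primes, q ≠ 31 → ¬ q ∣ Nat.card ↥D := fun q hq hne =>
      hno q (mem_primes hq).1 (fun h => by
        have := (Nat.prime_dvd_prime_iff_eq (by norm_num) (mem_primes hq).1).mp h
        subst this
        simp [Arith.primes] at hq) fun v hv h => by
        have h' := (determined hG S F I hq hv).resolve_right fun h' => hne h'.1
        rw [show Nat.card ↥(cz v) = (Arith.target q).1 from congrArg Prod.fst h'] at h
        simp only [Arith.primes, List.mem_cons, List.not_mem_nil, or_false] at hq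
        rcases hq with rfl | rfl | rfl | rfl | rfl <;> first | exact hne rfl | norm_num [Arith.target] at h
    have h2 : ¬ 2 ^ (3 + 1) ∣ Nat.card ↥D := fun h => by
      have := Fact.mk Nat.prime_two
      obtain ⟨R, hR⟩ := Sylow.exists_subgroup_card_pow_prime (G := ↥D) 2 h
      have hc16 : Nat.card ↥(R.map D.subtype) = 2 ^ (3 + 1) := by
        rw [Subgroup.card_map_of_injective (Subgroup.subtype_injective _), hR]
      have := two_part S F I hy (IsPGroup.of_card hc16) (Subgroup.map_subtype_le R)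
      rw [hc16] at this
      norm_num at this
    have h3 : ¬ 3 ^ (1 + 1) ∣ Nat.card ↥D := fun h => by
      obtain ⟨R, hR⟩ := Sylow.exists_subgroup_card_pow_prime (G := ↥D) 3 h
      have hc9 : Nat.card ↥(R.map D.subtype) = 3 ^ (1 + 1) := by
        rw [Subgroup.card_map_of_injective (Subgroup.subtype_injective _), hR]
      have := three_part S F I hG hy (IsPGroup.of_card hc9) (Subgroup.map_subtype_le R)
      rw [hc9] at this
      norm_num at this
    have h0 := Subgroup.card_subgroup_dvd_card D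
    rw [I.order] at h0
    have s1 := dvd_drop (k := 21) (j := 3)
      (m := 3 ^ 3 * (5 ^ 1 * (7 ^ 1 * (23 ^ 1 * (29 ^ 1 * (37 ^ 1 * (43 ^ 1 * (11 ^ 3 * 31))))))))
      Nat.prime_two (h0.trans (dvd_of_eq (by norm_num))) h2
    have s2 := dvd_drop (k := 3) (j := 1)
      (m := 2 ^ 3 * (5 ^ 1 * (7 ^ 1 * (23 ^ 1 * (29 ^ 1 * (37 ^ 1 * (43 ^ 1 * (11 ^ 3 * 31))))))))
      Nat.prime_three (s1.trans (dvd_of_eq (by norm_num))) h3
    have s3 := dvd_drop (k := 1) (j := 0)
      (m := 2 ^ 3 * (3 * (7 ^ 1 * (23 ^ 1 * (29 ^ 1 * (37 ^ 1 * (43 ^ 1 * (11 ^ 3 * 31))))))))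
      Nat.prime_five (s2.trans (dvd_of_eq (by norm_num))) (by simpa using h5)
    have s4 := dvd_drop (k := 1) (j := 0)
      (m := 2 ^ 3 * (3 * (23 ^ 1 * (29 ^ 1 * (37 ^ 1 * (43 ^ 1 * (11 ^ 3 * 31)))))))
      (by norm_num : Nat.Prime 7) (s3.trans (dvd_of_eq (by norm_num))) (by simpa using h7)
    have s5 := dvd_drop (k := 1) (j := 0)
      (m := 2 ^ 3 * (3 * (29 ^ 1 * (37 ^ 1 * (43 ^ 1 * (11 ^ 3 * 31))))))
      (by norm_num : Nat.Prime 23) (s4.trans (dvd_of_eq (by norm_num)))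
      (by simpa using hbig 23 (by decide) (by norm_num))
    have s6 := dvd_drop (k := 1) (j := 0) (m := 2 ^ 3 * (3 * (37 ^ 1 * (43 ^ 1 * (11 ^ 3 * 31)))))
      (by norm_num : Nat.Prime 29) (s5.trans (dvd_of_eq (by norm_num)))
      (by simpa using hbig 29 (by decide) (by norm_num))
    have s7 := dvd_drop (k := 1) (j := 0) (m := 2 ^ 3 * (3 * (43 ^ 1 * (11 ^ 3 * 31))))
      (by norm_num : Nat.Prime 37) (s6.trans (dvd_of_eq (by norm_num)))
      (by simpa using hbig 37 (by decide) (by norm_num))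
    have s8 := dvd_drop (k := 1) (j := 0) (m := 2 ^ 3 * (3 * (11 ^ 3 * 31)))
      (by norm_num : Nat.Prime 43) (s7.trans (dvd_of_eq (by norm_num)))
      (by simpa using hbig 43 (by decide) (by norm_num))
    exact s8.trans (dvd_of_eq (by norm_num))
  -- Sylow in `C(y)`
  set σ : ↥D := ⟨u, mem_cz.mpr hyu.symm⟩
  have h961 : ¬ 31 ^ 2 ∣ Nat.card ↥D := fun h => absurd (h.trans hDdvd) (by norm_num)
  obtain ⟨n, hn, hn1⟩ := sylow_count h961 (u := σ) (by rw [Subgroup.orderOf_mk, hu])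
  have hzp : ∀ d : ↥D, d ∈ Subgroup.zpowers σ ↔ (d : G) ∈ Subgroup.zpowers u := fun d =>
    ⟨fun ⟨i, hi⟩ => ⟨i, congrArg Subtype.val hi⟩, fun ⟨i, hi⟩ => ⟨i, Subtype.ext hi⟩⟩
  have hnz : Nat.card ↥(nz σ) = Nat.card ↥(D ⊓ nz u) := by
    refine Nat.card_congr ⟨fun d => ⟨d.1.1, d.1.2, ?_⟩, fun d => ⟨⟨d.1, d.2.1⟩, ?_⟩,
      fun _ => rfl, fun _ => rfl⟩
    · refine mem_normalizer_of_le fun a ha => ?_
      obtain ⟨i, rfl⟩ := ha
      exact (hzp (d.1 * σ ^ i * d.1⁻¹)).mp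
        ((Subgroup.mem_normalizer_iff.mp d.2 _).mp (Subgroup.zpow_mem_zpowers σ i))
    · refine mem_normalizer_of_le fun a ha => (hzp _).mpr ?_
      exact (Subgroup.mem_normalizer_iff.mp d.2.2 _).mp ((hzp a).mp ha)
  rw [hnz] at hn
  have hCle : Nat.card ↥(cz u) ∣ Nat.card ↥(D ⊓ nz u) :=
    Subgroup.card_dvd_of_le (le_inf hCy (cz_le_nz u))
  rw [hc] at hCle
  obtain ⟨m, hm⟩ := hCle
  have hn' : n ∣ 2 ^ 3 * 3 * 11 ^ 2 := by
    refine Nat.dvd_of_mul_dvd_mul_right (by norm_num : 0 < 341) ?_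
    refine (Dvd.intro m ?_).trans (hDdvd.trans (dvd_of_eq (by norm_num)))
    rw [← hn, hm]
    ring
  rw [Arith.count_eq_one hn' hn1, one_mul] at hn
  have heq : D ⊓ nz u = D := Subgroup.eq_of_le_of_card_ge inf_le_left hn.ge
  have hwN : w ∈ nz u := (heq.ge hwy).2
  have h2 := Subgroup.card_dvd_of_le (Subgroup.zpowers_le.mpr hwN)
  rw [Nat.card_zpowers, T.ord_z, hN] at h2
  norm_num at h2

/-- Self-centralizing, with the expected normalizer. -/
theorem sylow_structure {q : ℕ} [Fact q.Prime] (hq : q ∈ Arith.primes) (U : Sylow q G) :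
    Subgroup.centralizer ((U : Subgroup G) : Set G) = (U : Subgroup G) ∧
      Nat.card ↥(Subgroup.normalizer ((U : Subgroup G) : Set G)) =
        (Arith.target q).1 * (Arith.target q).2 := by
  classical
  obtain ⟨hqp, hqq, hqd, -, -⟩ := mem_primes hq
  have hqq' : ¬ q ^ 2 ∣ Nat.card G := by rw [I.order]; exact hqq
  obtain ⟨v, hv⟩ := exists_prime_orderOf_dvd_card' (G := G) q (by rw [I.order]; exact hqd)
  obtain ⟨P, hP⟩ := sylow_of_order hqq' hv
  obtain ⟨g, hg⟩ := MulAction.exists_smul_eq G P U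
  set u := g * v * g⁻¹ with hu'
  have hu : orderOf u = q := (MulEquiv.orderOf_eq (MulAut.conj g) v).trans hv
  have hUeq : (U : Subgroup G) = Subgroup.zpowers u := by
    refine (Subgroup.eq_of_le_of_card_ge ?_ ?_).symm
    · rw [Subgroup.zpowers_le, ← hg, Sylow.coe_subgroup_smul]
      exact Subgroup.smul_mem_pointwise_smul v (MulAut.conj g) _ (hP.ge (Subgroup.mem_zpowers v))
    · have hU : Nat.card ↥(U : Subgroup G) = Nat.card ↥(P : Subgroup G) :=
        (Nat.card_congr (Sylow.equiv P U).toEquiv).symm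
      rw [hU, hP, Nat.card_zpowers, Nat.card_zpowers, hu, hv]
  have h : (Nat.card ↥(cz u), idxOf u) = Arith.target q := by
    refine (determined hG S F I hq hu).resolve_right ?_
    rintro ⟨rfl, h31⟩
    exact not_bad hG S F I hu (congrArg Prod.fst h31) (congrArg Prod.snd h31)
  have h1 : Nat.card ↥(cz u) = (Arith.target q).1 := congrArg Prod.fst h
  refine ⟨?_, ?_⟩
  · rw [hUeq, Subgroup.zpowers_eq_closure, Subgroup.centralizer_closure,
      ← Subgroup.zpowers_eq_closure]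
    refine (Subgroup.eq_of_le_of_card_ge
      (Subgroup.zpowers_le.mpr (mem_cz.mpr (Commute.refl u))) ?_).symm
    show Nat.card ↥(cz u) ≤ _
    rw [h1, Nat.card_zpowers, hu]
    simp only [Arith.primes, List.mem_cons, List.not_mem_nil, or_false] at hq
    rcases hq with rfl | rfl | rfl | rfl | rfl <;> norm_num [Arith.target]
  · rw [hUeq]
    show Nat.card ↥(nz u) = _
    rw [card_nz, h1, show idxOf u = (Arith.target q).2 from congrArg Prod.snd h]

end Cfsg.Agent.Lib.J4BigPrimes
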