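import Cfsg.Agent.Lib.J4BigPrimes.Main
import Cfsg.Agent.Lib.J4Five.Rows
import Cfsg.Agent.Lib.J4Seven.Rows

/-!
# S5577 from the order, the three rows on `2^11`, and the row on `2^10 : L₅(2)`
-/

set_option autoImplicit false

namespace Cfsg.Agent.Lib.J4BigPrimes

open Cfsg.Agent.Lib.J4Local
open Cfsg.Agent.Lib.LargeExtraspecial.Basic

/-- The Sylow normalisers for the large primes. -/
theorem big_of_rows {G : Type*} [Group G] [Finite G] [IsSimpleGroup G]
    (hG : ¬ IsMulCommutative G) (z : G) (hJ : Cfsg.IsOfJankoFourTypeAt z)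
    (hcard : Nat.card G = 86775571046077562880)
    (h67 : ∀ V : Subgroup G, Cfsg.IsElementaryAbelian 2 V → Nat.card ↥V = 2 ^ 11 →
      Subgroup.centralizer (V : Set G) ≤ V ∧ ∃ K : Subgroup G,
        K ≤ Subgroup.normalizer (V : Set G) ∧ K ⊓ V = ⊥ ∧
        K ⊔ V = Subgroup.normalizer (V : Set G) ∧ Cfsg.Spor.IsoM24 ↥K)
    (h68 : ∀ V : Subgroup G, Cfsg.IsElementaryAbelian 2 V → Nat.card ↥V = 2 ^ 11 →
      ∃ z' t : G, z' ∈ V ∧ t ∈ V ∧ t ≠ 1 ∧ IsConj z z' ∧ ¬ IsConj z t ∧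
      Set.ncard {v : G | ∃ n ∈ Subgroup.normalizer (V : Set G), n * z' * n⁻¹ = v} = 1771 ∧
      Set.ncard {v : G | ∃ n ∈ Subgroup.normalizer (V : Set G), n * t * n⁻¹ = v} = 276 ∧
      Subgroup.centralizer ({t} : Set G) ≤ Subgroup.normalizer (V : Set G))
    (h69 : ∀ t : G, orderOf t = 2 → ¬ IsConj z t → ∃ V K : Subgroup G,
      V ≤ Subgroup.centralizer ({t} : Set G) ∧ K ≤ Subgroup.centralizer ({t} : Set G) ∧
      Subgroup.centralizer ({t} : Set G) ≤ Subgroup.normalizer (V : Set G) ∧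
      Cfsg.IsElementaryAbelian 2 V ∧ Nat.card ↥V = 2 ^ 11 ∧ K ⊓ V = ⊥ ∧
      K ⊔ V = Subgroup.centralizer ({t} : Set G) ∧ Nonempty (↥K ≃* MulAut ↥Cfsg.Spor.M22))
    (h70 : ∃ B : Subgroup G, Nonempty (↥B ≃* Matrix.SpecialLinearGroup (Fin 5) (ZMod 2))) :
    (∀ U : Sylow 23 G, Subgroup.centralizer ((U : Subgroup G) : Set G) = (U : Subgroup G) ∧ Nat.card ↥(Subgroup.normalizer ((U : Subgroup G) : Set G)) = 23 * 22) ∧
    (∀ U : Sylow 29 G, Subgroup.centralizer ((U : Subgroup G) : Set G) = (U : Subgroup G) ∧ Nat.card ↥(Subgroup.normalizer ((U : Subgroup G) : Set G)) = 29 * 28) ∧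
    (∀ U : Sylow 31 G, Subgroup.centralizer ((U : Subgroup G) : Set G) = (U : Subgroup G) ∧ Nat.card ↥(Subgroup.normalizer ((U : Subgroup G) : Set G)) = 31 * 10) ∧
    (∀ U : Sylow 37 G, Subgroup.centralizer ((U : Subgroup G) : Set G) = (U : Subgroup G) ∧ Nat.card ↥(Subgroup.normalizer ((U : Subgroup G) : Set G)) = 37 * 12) ∧
    (∀ U : Sylow 43 G, Subgroup.centralizer ((U : Subgroup G) : Set G) = (U : Subgroup G) ∧ Nat.card ↥(Subgroup.normalizer ((U : Subgroup G) : Set G)) = 43 * 14) := by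
  obtain ⟨p, S⟩ := Setting.of_at hJ
  have cen : ∀ x : G, cz x ≤ Subgroup.normalizer
      ((Subgroup.zpowers x : Subgroup G) : Set G) := fun x => cz_le_nz x
  have I : Inputs z := by
    refine ⟨hcard, ?_, ?_, fun x hx hxz => ?_, fun x hx hxz => ?_,
      fun V hV hc => (h67 V hV hc).1, h69⟩
    · obtain ⟨T⟩ := (inferInstance : Nonempty (Sylow 2 G))
      obtain ⟨V, hV, -⟩ := J4Big.RowS5566.unique_of_facts autFacts ⟨z, hJ⟩ T
      obtain ⟨-, K, -, -, -, ⟨iso⟩⟩ := h67 V hV.2.1 hV.2.2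
      exact ⟨K.subtype.comp iso.symm.toMonoidHom,
        Subtype.coe_injective.comp iso.symm.injective⟩
    · obtain ⟨B, ⟨iso⟩⟩ := h70
      exact ⟨B.subtype.comp iso.symm.toMonoidHom,
        Subtype.coe_injective.comp iso.symm.injective⟩
    · obtain ⟨-, -, -, hN⟩ := J4Five.five_of_rows hG z hJ h67 h68 h69 (Subgroup.zpowers x)
        (by rw [Nat.card_zpowers, hx]) (Subgroup.zpowers_le.mpr hxz)
      exact (Subgroup.card_dvd_of_le (cen x)).trans (dvd_of_eq (hN.trans (by norm_num)))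
    · obtain ⟨-, -, -, hN⟩ := J4Seven.seven_of_rows hG z hJ h67 h68 h69 (Subgroup.zpowers x)
        (by rw [Nat.card_zpowers, hx]) (Subgroup.zpowers_le.mpr hxz)
      exact (Subgroup.card_dvd_of_le (cen x)).trans (dvd_of_eq (hN.trans (by norm_num)))
  haveI : Fact (Nat.Prime 23) := ⟨by norm_num⟩
  haveI : Fact (Nat.Prime 29) := ⟨by norm_num⟩
  haveI : Fact (Nat.Prime 31) := ⟨by norm_num⟩
  haveI : Fact (Nat.Prime 37) := ⟨by norm_num⟩
  haveI : Fact (Nat.Prime 43) := ⟨by norm_num⟩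
  exact ⟨fun U => sylow_structure hG S autFacts I (by decide) U,
    fun U => sylow_structure hG S autFacts I (by decide) U,
    fun U => sylow_structure hG S autFacts I (by decide) U,
    fun U => sylow_structure hG S autFacts I (by decide) U,
    fun U => sylow_structure hG S autFacts I (by decide) U⟩

end Cfsg.Agent.Lib.J4BigPrimes
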